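import Groth.Agent.AnSites.OpCont
import Mathlib.CategoryTheory.Sites.DenseSubsite.SheafEquiv
import Mathlib.Algebra.Category.Grp.Limits

/-! The opens of a space form a dense subsite of its classical site. -/

universe u

open CategoryTheory TopologicalSpace Opposite Topology

namespace Groth.Agent.AnSites

open An

variable (T : Type u) [TopologicalSpace T]

instance faithful_opensToCl : (opensToCl T).Faithful := ⟨fun {_ _} _ _ _ => Subsingleton.elim _ _⟩

instance full_opensToCl : (opensToCl T).Full := ⟨fun {U V} f => by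
  have h : U ≤ V := fun t ht => by
    have e : (f.toFun ⟨t, ht⟩).1 = t := f.over ⟨t, ht⟩
    rw [← e]
    exact (f.toFun ⟨t, ht⟩).2
  exact ⟨homOfLE h, Cl.hom_ext (funext fun a => Subtype.ext (f.over a).symm)⟩⟩

theorem isDenseSubsite :
    (opensToCl T).IsDenseSubsite (Opens.grothendieckTopology T) (Cl.topology T) := by
  haveI : (opensToCl T).IsCoverDense (Cl.topology T) := by
    refine ⟨fun A => ?_⟩
    intro (a : A.E)
    obtain ⟨N, hN, hNe⟩ := isLocalHomeomorph_iff_isOpenEmbedding_restrict.1 A.lh a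
    obtain ⟨W, hWN, hWo, haW⟩ := mem_nhds_iff.1 hN
    have he : IsOpenEmbedding (W.domRestrict A.p) :=
      hNe.comp (.inclusion hWN (hWo.preimage continuous_subtype_val))
    let V : Opens T := ⟨Set.range (W.domRestrict A.p), he.isOpen_range⟩
    let e : W ≃ₜ V := he.isEmbedding.toHomeomorph
    let g : (opensToCl T).obj V ⟶ A :=
      ⟨fun v => (e.symm v).1, continuous_subtype_val.comp e.symm.continuous, fun v => by
        exact congrArg Subtype.val (e.apply_symm_apply v)⟩
    refine ⟨(opensToCl T).obj V, g, ⟨⟨V, 𝟙 _, g, by simp⟩⟩,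
      hWo.isOpenEmbedding_subtypeVal.comp e.symm.isOpenEmbedding, ⟨e ⟨a, haW⟩, ?_⟩⟩
    change ((e.symm (e ⟨a, haW⟩)) : W).1 = a
    rw [Homeomorph.symm_apply_apply]
  refine { functorPushforward_mem_iff := ⟨fun hS => ?_, fun hS =>
    (coverPreserving_opensToCl T).cover_preserve hS⟩ }
  intro t ht
  obtain ⟨B, g, ⟨V, i, h, hSi, rfl⟩, -, b, hb⟩ := hS ⟨t, ht⟩
  refine ⟨V, i, hSi, ?_⟩
  have e : (h.toFun b).1 = t := congrArg Subtype.val hb
  rw [← e]
  exact (h.toFun b).2

theorem isEquivalence_resOpens [OpCont T] : (resOpens T).IsEquivalence := by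
  haveI := isDenseSubsite T
  infer_instance

end Groth.Agent.AnSites
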