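import Groth.Prelude.Def_AnEps
import Groth.Agent.AnPts.Pullback
import Groth.Agent.AnPts.Constr
import Groth.Agent.EtFound.Basic
import Mathlib.CategoryTheory.Sites.CoverPreserving

/-! Continuity of the comparison functor of sites. -/

universe w

open AlgebraicGeometry CategoryTheory CategoryTheory.Limits TopologicalSpace Opposite

namespace Groth.Agent.AnSites

open An An.Pts

set_option backward.isDefEq.respectTransparency.types false

variable (X : Scheme.{0}) [X.Over SC] [LocallyOfFiniteType (X ↘ SC)]

theorem lft_etale (U : X.Etale) : LocallyOfFiniteType (U.left ↘ SC) := by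
  haveI : Etale U.hom := U.prop
  change LocallyOfFiniteType (U.hom ≫ X ↘ SC)
  infer_instance

variable [Fact EtaleLH]

theorem compatiblePreserving_eps : CompatiblePreserving.{w} (Cl.topology (Pts X)) (eps X) where
  compatible ℱ Z P x hx Y₁ Y₂ A f₁ f₂ g₁ g₂ hg₁ hg₂ h := by
    classical
    haveI := lft_etale X Y₁
    haveI := lft_etale X Y₂
    haveI := lft_etale X Z
    haveI : Etale g₁.left := EtFound.etale_left g₁
    haveI : Etale g₂.left := EtFound.etale_left g₂
    haveI : Etale Y₁.hom := Y₁.prop
    let W : X.Etale := MorphismProperty.Over.mk _ (pullback.fst g₁.left g₂.left ≫ Y₁.hom)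
      (inferInstanceAs (Etale (pullback.fst g₁.left g₂.left ≫ Y₁.hom)))
    let p₁ : W ⟶ Y₁ := MorphismProperty.Over.homMk (pullback.fst g₁.left g₂.left) rfl
    let p₂ : W ⟶ Y₂ := MorphismProperty.Over.homMk (pullback.snd g₁.left g₂.left) (by
      change pullback.snd g₁.left g₂.left ≫ Y₂.hom = pullback.fst g₁.left g₂.left ≫ Y₁.hom
      have w₁ : g₁.left ≫ Z.hom = Y₁.hom := MorphismProperty.Over.w g₁
      have w₂ : g₂.left ≫ Z.hom = Y₂.hom := MorphismProperty.Over.w g₂
      rw [← w₁, ← w₂, ← Category.assoc, ← Category.assoc, pullback.condition])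
    have hp : p₁ ≫ g₁ = p₂ ≫ g₂ := MorphismProperty.Over.Hom.ext pullback.condition
    have hc : ∀ a, Pts.map g₁.left (f₁.toFun a) = Pts.map g₂.left (f₂.toFun a) := fun a =>
      congrFun (congrArg Cl.Hom.toFun h) a
    choose q hq using fun a => AnPts.exists_prodMap_eq g₁.left g₂.left (f₁.toFun a) (f₂.toFun a) (hc a)
    have hqc : Continuous q := by
      rw [(AnPts.isInducing_prodMap g₁.left g₂.left).continuous_iff,
        show AnPts.prodMap g₁.left g₂.left ∘ q = fun a => (f₁.toFun a, f₂.toFun a) from funext hq]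
      exact f₁.continuous.prodMk f₂.continuous
    let cst : C(Pts (pullback g₁.left g₂.left), Pts W.left) :=
      Pts.cast (X := pullback g₁.left g₂.left) (An.pullbackOver g₁.left g₂.left)
        (An.etaleOverLeft X W) (by
          change pullback.fst g₁.left g₂.left ≫ (Y₁.hom ≫ X ↘ SC) =
            (pullback.fst g₁.left g₂.left ≫ Y₁.hom) ≫ X ↘ SC
          rw [Category.assoc])
    let f : A ⟶ (eps X).obj W :=
      ⟨fun a => cst (q a), cst.continuous.comp hqc, fun a => by
        refine Eq.trans (Subtype.ext ?_) (f₁.over a)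
        change (q a).1 ≫ pullback.fst g₁.left g₂.left ≫ Y₁.hom = (f₁.toFun a).1 ≫ Y₁.hom
        rw [← Category.assoc]
        exact congrArg (· ≫ Y₁.hom) (congrArg Subtype.val (congrArg Prod.fst (hq a)))⟩
    have e₁ : f₁ = f ≫ (eps X).map p₁ := Cl.hom_ext (funext fun a => Subtype.ext
      (congrArg Subtype.val (congrArg Prod.fst (hq a))).symm)
    have e₂ : f₂ = f ≫ (eps X).map p₂ := Cl.hom_ext (funext fun a => Subtype.ext
      (congrArg Subtype.val (congrArg Prod.snd (hq a))).symm)
    rw [e₁, e₂, op_comp, op_comp, Functor.map_comp, Functor.map_comp]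
    simp only [types_comp_apply]
    exact congrArg _ (hx p₁ p₂ hg₁ hg₂ hp)

theorem coverPreserving_eps :
    CoverPreserving X.smallEtaleTopology (Cl.topology (Pts X)) (eps X) where
  cover_preserve {U S} hS := by
    intro (a : Pts U.left)
    haveI := lft_etale X U
    obtain ⟨V, g, v, hSg, hv⟩ := (EtFound.mem_topology_iff S).1 hS a.pt
    haveI := lft_etale X V
    obtain ⟨b, hb⟩ := AnPts.exists_map_eq g.left a ⟨v, hv⟩
    haveI : Etale g.left := EtFound.etale_left g
    have hlh : IsLocalHomeomorph (Pts.map g.left) := (Fact.out : EtaleLH) V.left U.left g.left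
    obtain ⟨N, hN, hNe⟩ := isLocalHomeomorph_iff_isOpenEmbedding_restrict.1 hlh b
    obtain ⟨W, hWN, hWo, hbW⟩ := mem_nhds_iff.1 hN
    refine ⟨Cl.restrictOpen ((eps X).obj V) W hWo,
      Cl.restrictOpenι ((eps X).obj V) W hWo ≫ (eps X).map g,
      (S.functorPushforward (eps X)).downward_closed
        (Presieve.image_mem_functorPushforward _ _ hSg) _, ?_, ⟨⟨b, hbW⟩, hb⟩⟩
    exact hNe.comp (.inclusion hWN (hWo.preimage continuous_subtype_val))

theorem epsCont : EpsCont X :=
  Functor.isContinuous_of_coverPreserving (compatiblePreserving_eps X) (coverPreserving_eps X)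

end Groth.Agent.AnSites
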