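import Groth.Agent.AnSites.EpsCont
import Groth.Agent.EtFound.Basic
import Mathlib.CategoryTheory.Functor.Flat
import Mathlib.CategoryTheory.Sites.Pullback
import Mathlib.AlgebraicGeometry.Morphisms.FormallyUnramified

/-! The comparison functor of sites is flat, so the inverse image is exact. -/

universe w v₁ v₂ v₃ u₁ u₂ u₃

open AlgebraicGeometry CategoryTheory CategoryTheory.Limits TopologicalSpace Opposite

namespace Groth.Agent.AnSites

open An An.Pts

section Lan

variable {C : Type u₁} [Category.{v₁} C] {D : Type u₂} [Category.{v₂} D] {E : Type u₃} [Category.{v₃} E]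

set_option backward.defeqAttrib.useBackward true in
set_option backward.isDefEq.respectTransparency false in
/-- The evaluation of `F.lan` at `X` is the colimit over the costructured arrows over `X`. -/
noncomputable def lanEvalIso (F : C ⥤ D) (X : D)
    [∀ X : D, HasColimitsOfShape (CostructuredArrow F X) E] :
    F.lan ⋙ (evaluation D E).obj X ≅
      (Functor.whiskeringLeft _ _ E).obj (CostructuredArrow.proj F X) ⋙ colim :=
  NatIso.ofComponents (fun G =>
    IsColimit.coconePointUniqueUpToIso
    (Functor.isPointwiseLeftKanExtensionLeftKanExtensionUnit F G X)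
    (colimit.isColimit _)) (fun {G₁ G₂} φ => by
      apply (Functor.isPointwiseLeftKanExtensionLeftKanExtensionUnit F G₁ X).hom_ext
      intro T
      have h₁ := fun (G : C ⥤ E) => IsColimit.comp_coconePointUniqueUpToIso_hom
        (Functor.isPointwiseLeftKanExtensionLeftKanExtensionUnit F G X) (colimit.isColimit _) T
      have h₂ := congr_app (F.lanUnit.naturality φ) T.left
      dsimp at h₁ h₂ ⊢
      simp only [Category.assoc] at h₁ ⊢
      simp only [Functor.lan, Functor.lanUnit] at h₂ ⊢
      rw [reassoc_of% h₁, NatTrans.naturality_assoc, ← reassoc_of% h₂, h₁,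
        ι_colimMap, Functor.whiskerLeft_app]
      rfl)

end Lan

/-- For a representably flat functor, left Kan extension of presheaves is left exact. -/
theorem preservesFiniteLimits_lan {C : Type 1} [Category.{0} C] {D : Type 1} [Category.{0} D]
    (F : C ⥤ D) [RepresentablyFlat F] :
    PreservesFiniteLimits (F.op.lan : (Cᵒᵖ ⥤ AddCommGrpCat.{1}) ⥤ Dᵒᵖ ⥤ AddCommGrpCat.{1}) := by
  haveI : AB5OfSize.{0, 1} AddCommGrpCat.{1} := AB5OfSize_of_univLE.{0, 1, 1, 1} AddCommGrpCat.{1}
  refine ⟨fun J _ _ => ?_⟩
  apply preservesLimitsOfShape_of_evaluation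
  intro K
  haveI : IsFiltered (CostructuredArrow F.op K) :=
    IsFiltered.of_equivalence (structuredArrowOpEquivalence F (unop K))
  exact preservesLimitsOfShape_of_natIso (lanEvalIso F.op K).symm

set_option backward.isDefEq.respectTransparency.types false

variable (X : Scheme.{0}) [X.Over SC] [LocallyOfFiniteType (X ↘ SC)] [Fact EtaleLH]

theorem representablyFlat_eps : RepresentablyFlat (eps X) where
  cofiltered (A : Cl (Pts X)) := by
    classical
    haveI : IsCofilteredOrEmpty (StructuredArrow A (eps X)) := by
      refine ⟨fun S₁ S₂ => ?_, fun S₁ S₂ g₁ g₂ => ?_⟩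
      · let Y₁ := S₁.right
        let Y₂ := S₂.right
        haveI := lft_etale X Y₁
        haveI := lft_etale X Y₂
        haveI : Etale (Y₁.left ↘ X) := Y₁.prop
        haveI : Etale (Y₂.left ↘ X) := Y₂.prop
        let W : X.Etale := MorphismProperty.Over.mk _ (pullback.fst (Y₁.left ↘ X) (Y₂.left ↘ X) ≫ (Y₁.left ↘ X))
          (inferInstanceAs (Etale (pullback.fst (Y₁.left ↘ X) (Y₂.left ↘ X) ≫ (Y₁.left ↘ X))))
        let p₁ : W ⟶ Y₁ := MorphismProperty.Over.homMk (pullback.fst (Y₁.left ↘ X) (Y₂.left ↘ X)) rfl
        let p₂ : W ⟶ Y₂ := MorphismProperty.Over.homMk (pullback.snd (Y₁.left ↘ X) (Y₂.left ↘ X))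
          pullback.condition.symm
        have hc : ∀ a : A.E, Pts.map (Y₁.left ↘ X) (S₁.hom.toFun a) = Pts.map (Y₂.left ↘ X) (S₂.hom.toFun a) :=
          fun a => (S₁.hom.over a).trans (S₂.hom.over a).symm
        choose q hq using fun a => AnPts.exists_prodMap_eq (Y₁.left ↘ X) (Y₂.left ↘ X)
          (S₁.hom.toFun a) (S₂.hom.toFun a) (hc a)
        have hqc : Continuous q := by
          rw [(AnPts.isInducing_prodMap (Y₁.left ↘ X) (Y₂.left ↘ X)).continuous_iff,
            show AnPts.prodMap (Y₁.left ↘ X) (Y₂.left ↘ X) ∘ q = fun a => (S₁.hom.toFun a, S₂.hom.toFun a) from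
              funext hq]
          exact S₁.hom.continuous.prodMk S₂.hom.continuous
        let cst : C(Pts (pullback (Y₁.left ↘ X) (Y₂.left ↘ X)), Pts W.left) :=
          Pts.cast (X := pullback (Y₁.left ↘ X) (Y₂.left ↘ X)) (An.pullbackOver (Y₁.left ↘ X) (Y₂.left ↘ X))
            (An.etaleOverLeft X W) (by
              change pullback.fst (Y₁.left ↘ X) (Y₂.left ↘ X) ≫ ((Y₁.left ↘ X) ≫ X ↘ SC) =
                (pullback.fst (Y₁.left ↘ X) (Y₂.left ↘ X) ≫ (Y₁.left ↘ X)) ≫ X ↘ SC
              rw [Category.assoc])
        let f : A ⟶ (eps X).obj W :=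
          ⟨fun a => cst (q a), cst.continuous.comp hqc, fun a => by
            refine Eq.trans (Subtype.ext ?_) (S₁.hom.over a)
            change (q a).1 ≫ pullback.fst (Y₁.left ↘ X) (Y₂.left ↘ X) ≫ (Y₁.left ↘ X) = (S₁.hom.toFun a).1 ≫ (Y₁.left ↘ X)
            rw [← Category.assoc]
            exact congrArg (· ≫ (Y₁.left ↘ X)) (congrArg Subtype.val (congrArg Prod.fst (hq a)))⟩
        exact ⟨StructuredArrow.mk f,
          StructuredArrow.homMk p₁ (Cl.hom_ext (funext fun a => Subtype.ext
            (congrArg Subtype.val (congrArg Prod.fst (hq a))))),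
          StructuredArrow.homMk p₂ (Cl.hom_ext (funext fun a => Subtype.ext
            (congrArg Subtype.val (congrArg Prod.snd (hq a))))), trivial⟩
      · let Y := S₁.right
        let Z := S₂.right
        haveI := lft_etale X Y
        haveI : Etale Y.hom := Y.prop
        haveI : Etale Z.hom := Z.prop
        let u : Y.left ⟶ pullback Z.hom Z.hom := pullback.lift g₁.right.left g₂.right.left
          ((MorphismProperty.Over.w g₁.right).trans (MorphismProperty.Over.w g₂.right).symm)
        let j : pullback u (pullback.diagonal Z.hom) ⟶ Y.left := pullback.fst _ _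
        haveI : IsOpenImmersion j :=
          MorphismProperty.pullback_fst u (pullback.diagonal Z.hom) inferInstance
        let W : X.Etale := MorphismProperty.Over.mk _ (j ≫ Y.hom) (inferInstanceAs (Etale (j ≫ Y.hom)))
        let p : W ⟶ Y := MorphismProperty.Over.homMk j rfl
        haveI := lft_etale X W
        haveI : IsOpenImmersion p.left := ‹IsOpenImmersion j›
        have hp : p ≫ g₁.right = p ≫ g₂.right := by
          apply MorphismProperty.Over.Hom.ext
          change j ≫ g₁.right.left = j ≫ g₂.right.left
          have e := pullback.condition (f := u) (g := pullback.diagonal Z.hom)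
          have e₁ := congrArg (· ≫ pullback.fst Z.hom Z.hom) e
          have e₂ := congrArg (· ≫ pullback.snd Z.hom Z.hom) e
          simp only [u, Category.assoc, pullback.lift_fst, pullback.lift_snd, pullback.diagonal_fst,
            pullback.diagonal_snd, Category.comp_id] at e₁ e₂
          exact e₁.trans e₂.symm
        have hc : ∀ a : A.E, ∃ b : Pts W.left, Pts.map p.left b = S₁.hom.toFun a := by
          intro a
          apply AnPts.exists_map_eq
          have e : (S₁.hom.toFun a).1 ≫ u =
              ((S₁.hom.toFun a).1 ≫ g₁.right.left) ≫ pullback.diagonal Z.hom := by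
            apply pullback.hom_ext
            · simp only [u, Category.assoc, pullback.lift_fst, pullback.diagonal_fst, Category.comp_id]
            · simp only [u, Category.assoc, pullback.lift_snd, pullback.diagonal_snd, Category.comp_id]
              have h₁ := congrArg Subtype.val (congrFun (congrArg Cl.Hom.toFun (StructuredArrow.w g₁)) a)
              have h₂ := congrArg Subtype.val (congrFun (congrArg Cl.Hom.toFun (StructuredArrow.w g₂)) a)
              exact h₂.trans h₁.symm
          refine ⟨(pullback.lift (S₁.hom.toFun a).1 ((S₁.hom.toFun a).1 ≫ g₁.right.left) e) cpt, ?_⟩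
          change (pullback.lift _ _ e ≫ j) cpt = (S₁.hom.toFun a).1 cpt
          rw [show pullback.lift _ _ e ≫ j = (S₁.hom.toFun a).1 from pullback.lift_fst _ _ _]
        choose q hq using hc
        have hqc : Continuous q := by
          rw [(AnPts.isInducing_map p.left).continuous_iff,
            show Pts.map p.left ∘ q = S₁.hom.toFun from funext hq]
          exact S₁.hom.continuous
        let f : A ⟶ (eps X).obj W :=
          ⟨q, hqc, fun a => by
            refine Eq.trans (Subtype.ext ?_) (S₁.hom.over a)
            change (q a).1 ≫ j ≫ Y.hom = (S₁.hom.toFun a).1 ≫ Y.hom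
            rw [← Category.assoc]
            exact congrArg (· ≫ Y.hom) (congrArg Subtype.val (hq a))⟩
        refine ⟨StructuredArrow.mk f,
          StructuredArrow.homMk p (Cl.hom_ext (funext fun a => hq a)), ?_⟩
        exact StructuredArrow.hom_ext _ _ hp
    let T : X.Etale := MorphismProperty.Over.mk _ (𝟙 X) (inferInstanceAs (Etale (𝟙 X)))
    let cT : C(Pts X, Pts T.left) := Pts.cast (X := X) ‹X.Over SC› (An.etaleOverLeft X T)
      (by change X ↘ SC = 𝟙 X ≫ X ↘ SC; rw [Category.id_comp])
    let f : A ⟶ (eps X).obj T :=
      ⟨fun a => cT (A.p a), cT.continuous.comp A.lh.continuous,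
        fun a => Subtype.ext (Category.comp_id _)⟩
    exact { nonempty := ⟨StructuredArrow.mk f⟩ }

theorem preservesFiniteLimits_epsPull [EpsCont X] : PreservesFiniteLimits (epsPull X) := by
  haveI := representablyFlat_eps X
  haveI := preservesFiniteLimits_lan (eps X)
  exact Functor.sheafPullbackConstruction.preservesFiniteLimits _ _ _ _

end Groth.Agent.AnSites
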