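import Groth.Prelude.Def_AnCl
import Mathlib.CategoryTheory.Sites.CoverPreserving

/-! The inclusion of the opens into the classical site is continuous. -/

universe u w

open CategoryTheory TopologicalSpace Opposite

namespace Groth.Agent.AnSites

open An

variable (T : Type u) [TopologicalSpace T]

theorem compatiblePreserving_opensToCl :
    CompatiblePreserving.{w} (Cl.topology T) (opensToCl T) where
  compatible ℱ Z P x hx Y₁ Y₂ A f₁ f₂ g₁ g₂ hg₁ hg₂ h := by
    have h₁ : ∀ a, A.p a ∈ Y₁ := fun a => by rw [← f₁.over a]; exact (f₁.toFun a).2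
    have h₂ : ∀ a, A.p a ∈ Y₂ := fun a => by rw [← f₂.over a]; exact (f₂.toFun a).2
    let f : A ⟶ (opensToCl T).obj (Y₁ ⊓ Y₂) :=
      ⟨fun a => ⟨A.p a, h₁ a, h₂ a⟩, A.lh.continuous.subtype_mk _, fun _ => rfl⟩
    have e₁ : f₁ = f ≫ (opensToCl T).map (homOfLE inf_le_left) :=
      Cl.hom_ext (funext fun a => Subtype.ext (f₁.over a))
    have e₂ : f₂ = f ≫ (opensToCl T).map (homOfLE inf_le_right) :=
      Cl.hom_ext (funext fun a => Subtype.ext (f₂.over a))
    rw [e₁, e₂, op_comp, op_comp, Functor.map_comp, Functor.map_comp]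
    simp only [types_comp_apply]
    exact congrArg _ (hx (homOfLE inf_le_left) (homOfLE inf_le_right) hg₁ hg₂ (Subsingleton.elim _ _))

theorem coverPreserving_opensToCl :
    CoverPreserving (Opens.grothendieckTopology T) (Cl.topology T) (opensToCl T) where
  cover_preserve {U S} hS := by
    rintro ⟨t, ht⟩
    obtain ⟨V, i, hV, htV⟩ := hS t ht
    refine ⟨(opensToCl T).obj V, (opensToCl T).map i,
      Presieve.image_mem_functorPushforward _ _ hV, ?_, ⟨⟨t, htV⟩, rfl⟩⟩
    exact .inclusion i.le (V.2.preimage continuous_subtype_val)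

theorem opCont : OpCont T :=
  Functor.isContinuous_of_coverPreserving (compatiblePreserving_opensToCl T)
    (coverPreserving_opensToCl T)

end Groth.Agent.AnSites
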